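import Groth.Agent.Lib.CBGor28.Main
import Groth.Agent.Lib.QSecGen13.Proper
import Groth.Agent.Lib.Euler.TensorSupport

/-!
# Covers of an ideal sheaf of finite colength
-/

set_option autoImplicit false
set_option maxHeartbeats 1600000
set_option linter.style.haveILetI false
set_option linter.unusedSectionVars false
set_option backward.isDefEq.respectTransparency false

universe u

open CategoryTheory CategoryTheory.Limits AlgebraicGeometry TopologicalSpace Opposite

noncomputable section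

namespace GrothLib.CBLci28

attribute [local instance] CBGor28.algV

section Algebra

variable {A : Type*} [CommRing A] {𝔟 : Ideal A}

/-- An atom in the lattice of ideals is generated by an element killed by a maximal ideal. -/
theorem exists_socle_of_atom (h : IsAtom 𝔟) :
    ∃ (s : A) (p : Ideal A), p.IsMaximal ∧ s ≠ 0 ∧ (∀ x ∈ p, x * s = 0) ∧ 𝔟 = Ideal.span {s} := by
  obtain ⟨s, hs, hs0⟩ := Submodule.exists_mem_ne_zero_of_ne_bot h.1
  have hgen : ∀ t : A, t ∈ 𝔟 → t ≠ 0 → 𝔟 = Ideal.span {t} := fun t ht ht0 =>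
    ((h.le_iff_eq (by simpa [Ideal.span_singleton_eq_bot] using ht0)).1
      ((Ideal.span_singleton_le_iff_mem _).2 ht)).symm
  refine ⟨s, LinearMap.ker (LinearMap.toSpanSingleton A A s), ?_, hs0, fun x hx => hx, hgen s hs hs0⟩
  refine Ideal.isMaximal_iff.2 ⟨fun h1 => hs0 (by simpa using h1), fun J x hJ hx hxJ => ?_⟩
  have hxs : x * s ≠ 0 := hx
  obtain ⟨y, hy⟩ : ∃ y, y * (x * s) = s :=
    Ideal.mem_span_singleton'.1 (hgen _ (𝔟.mul_mem_left x hs) hxs ▸ hs)
  have h1 : 1 - y * x ∈ LinearMap.ker (LinearMap.toSpanSingleton A A s) := by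
    rw [LinearMap.mem_ker, LinearMap.toSpanSingleton_apply, smul_eq_mul, sub_mul, one_mul, mul_assoc, hy, sub_self]
  simpa using J.add_mem (hJ h1) (J.mul_mem_left y hxJ)

/-- An atom of the lattice of ideals of a finite algebra over an algebraically closed field is a line. -/
theorem finrank_atom (k : Type*) [Field k] [IsAlgClosed k] [Algebra k A] [Module.Finite k A] (h : IsAtom 𝔟) :
    Module.finrank k (𝔟.restrictScalars k) = 1 := by
  obtain ⟨s, p, hp, hs0, hps, rfl⟩ := exists_socle_of_atom h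
  haveI := hp
  letI := Ideal.Quotient.field p
  haveI : Module.Finite k (A ⧸ p) :=
    Module.Finite.of_surjective (Ideal.Quotient.mkₐ k p).toLinearMap Ideal.Quotient.mk_surjective
  have hspan : (Ideal.span {s}).restrictScalars k = Submodule.span k {s} := by
    refine le_antisymm ?_ ?_
    · intro t ht
      obtain ⟨y, rfl⟩ := Ideal.mem_span_singleton'.1 (Submodule.restrictScalars_mem k _ _ |>.1 ht)
      obtain ⟨c, hc⟩ := (IsAlgClosed.algebraMap_bijective_of_isIntegral (k := k) (K := A ⧸ p)).2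
        (Ideal.Quotient.mk p y)
      rw [Ideal.Quotient.mk_algebraMap k p c |>.symm, Ideal.Quotient.eq] at hc
      have h2 := hps _ hc
      rw [sub_mul, sub_eq_zero] at h2
      rw [← h2, ← Algebra.smul_def]
      exact Submodule.smul_mem _ _ (Submodule.mem_span_singleton_self s)
    · rw [Submodule.span_le, Set.singleton_subset_iff]
      exact Ideal.mem_span_singleton_self s
  rw [hspan, finrank_span_singleton hs0]

end Algebra

variable {X : Scheme.{u}}

/-- An ideal on an affine open extends. -/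
theorem exists_ideal_eq [QuasiSeparatedSpace X] (U : X.affineOpens) (𝔞 : Ideal Γ(X, U.1)) :
    ∃ J : X.IdealSheafData, J.ideal U = 𝔞 := by
  let φ : Γ(X, U.1) ⟶ CommRingCat.of (Γ(X, U.1) ⧸ 𝔞) := CommRingCat.ofHom (Ideal.Quotient.mk 𝔞)
  let f := Spec.map φ ≫ U.2.fromSpec
  haveI : QuasiSeparated (terminal.from X) :=
    quasiSeparated_iff_quasiSeparatedSpace _ |>.mpr ‹_›
  haveI : QuasiCompact (f ≫ terminal.from X) := inferInstance
  haveI : QuasiCompact f := QuasiCompact.of_comp f (terminal.from X)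
  refine ⟨f.ker, ?_⟩
  have hpre : (⊤ : (Spec (CommRingCat.of (Γ(X, U.1) ⧸ 𝔞))).Opens) ≤ f ⁻¹ᵁ U.1 := by
    rw [Scheme.Hom.comp_preimage, U.2.fromSpec_preimage_self, Scheme.Hom.preimage_top]
  have key : f.appLE U.1 ⊤ hpre = φ ≫ (Scheme.ΓSpecIso _).inv := by
    have h1 : U.2.fromSpec.appLE U.1 ⊤ (by rw [U.2.fromSpec_preimage_self]) = (Scheme.ΓSpecIso Γ(X, U.1)).inv := by
      rw [Scheme.Hom.appLE, U.2.fromSpec_app_self, Category.assoc, ← Functor.map_comp]
      exact (congrArg _ (CategoryTheory.Functor.map_id _ _)).trans (Category.comp_id _)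
    rw [← Scheme.Hom.appLE_comp_appLE (Spec.map φ) U.2.fromSpec U.1 ⊤ ⊤
      (by rw [U.2.fromSpec_preimage_self]) (by rw [Scheme.Hom.preimage_top]), h1]
    have h2 : (Spec.map φ).appLE ⊤ ⊤ (by rw [Scheme.Hom.preimage_top]) = (Spec.map φ).appTop := by
      simp [Scheme.Hom.appLE, Scheme.Hom.appTop]
    rw [h2]
    exact (Scheme.ΓSpecIso_inv_naturality φ).symm
  rw [Scheme.Hom.ker_apply]
  ext r
  rw [RingHom.mem_ker]
  have hfU : f ⁻¹ᵁ U.1 = ⊤ := top_le_iff.1 hpre
  have hb : Function.Bijective ((Spec (CommRingCat.of (Γ(X, U.1) ⧸ 𝔞))).presheaf.map (homOfLE hpre).op) := by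
    haveI : IsIso ((Spec (CommRingCat.of (Γ(X, U.1) ⧸ 𝔞))).presheaf.map (homOfLE hpre).op) := by
      rw [Subsingleton.elim (homOfLE hpre).op (eqToHom (congrArg Opposite.op hfU))]
      infer_instance
    exact ConcreteCategory.bijective_of_isIso _
  have h3 := DFunLike.congr_fun (congrArg CommRingCat.Hom.hom key) r
  rw [← map_eq_zero_iff _ hb.1]
  constructor
  · intro h
    rw [Scheme.Hom.appLE] at h3
    have h4 : (Scheme.ΓSpecIso (CommRingCat.of (Γ(X, U.1) ⧸ 𝔞))).inv (φ r) = 0 := h3.symm.trans h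
    exact Ideal.Quotient.eq_zero_iff_mem.1
      ((ConcreteCategory.bijective_of_isIso (Scheme.ΓSpecIso (CommRingCat.of (Γ(X, U.1) ⧸ 𝔞))).inv).1
        (h4.trans (map_zero _).symm))
  · intro h
    refine h3.trans ?_
    show (Scheme.ΓSpecIso (CommRingCat.of (Γ(X, U.1) ⧸ 𝔞))).inv (Ideal.Quotient.mk 𝔞 r) = 0
    rw [Ideal.Quotient.eq_zero_iff_mem.2 h, map_zero]

variable (IZ : X.IdealSheafData) (U : X.affineOpens) (hsupp : (IZ.support : Set X) ⊆ U.1)

include hsupp in
theorem le_of_ideal_le {I J : X.IdealSheafData} (hJ : IZ ≤ J) (h : I.ideal U ≤ J.ideal U) : I ≤ J := by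
  let C := {W : X.affineOpens // W = U ∨ Disjoint (W.1 : Set X) (IZ.support : Set X)}
  refine Scheme.IdealSheafData.le_of_iSup_eq_top (fun W : C => W.1) ?_ ?_
  · refine eq_top_iff.2 fun y _ => ?_
    by_cases hy : y ∈ (IZ.support : Set X)
    · exact Opens.mem_iSup.2 ⟨⟨U, Or.inl rfl⟩, hsupp hy⟩
    · obtain ⟨W, hW, hyW, hWs⟩ := exists_isAffineOpen_mem_and_subset
        (U := ⟨(IZ.support : Set X)ᶜ, IZ.support.isClosed.isOpen_compl⟩) hy
      exact Opens.mem_iSup.2 ⟨⟨⟨W, hW⟩, Or.inr (Set.disjoint_left.2 fun z hz => hWs hz)⟩, hyW⟩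
  · rintro ⟨W, rfl | hd⟩
    · exact h
    · show I.ideal W ≤ J.ideal W
      exact le_top.trans ((Nagata6.ideal_eq_top_of_disjoint IZ W hd).ge.trans (hJ W))

/-- The image in the coordinate ring of the finite subscheme. -/
def img (J : X.IdealSheafData) : Ideal (Γ(X, U.1) ⧸ IZ.ideal U) :=
  (J.ideal U).map (Ideal.Quotient.mk (IZ.ideal U))

theorem mem_img {J : X.IdealSheafData} (hJ : IZ ≤ J) {r : Γ(X, U.1)} :
    Ideal.Quotient.mk (IZ.ideal U) r ∈ img IZ U J ↔ r ∈ J.ideal U := by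
  rw [img, ← Ideal.mem_comap, Ideal.comap_map_of_surjective _ Ideal.Quotient.mk_surjective]
  rw [show Ideal.comap (Ideal.Quotient.mk (IZ.ideal U)) ⊥ = IZ.ideal U from Ideal.mk_ker,
    sup_eq_left.2 (hJ U)]

theorem img_self : img IZ U IZ = ⊥ := Ideal.map_quotient_self _

include hsupp in
theorem img_le_iff {I J : X.IdealSheafData} (hI : IZ ≤ I) (hJ : IZ ≤ J) :
    img IZ U I ≤ img IZ U J ↔ I ≤ J :=
  ⟨fun h => le_of_ideal_le IZ U hsupp hJ fun r hr => (mem_img IZ U hJ).1 (h ((mem_img IZ U hI).2 hr)),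
    fun h => Ideal.map_mono (h U)⟩

include hsupp in
theorem exists_img_eq [QuasiSeparatedSpace X] (𝔟 : Ideal (Γ(X, U.1) ⧸ IZ.ideal U)) :
    ∃ K : X.IdealSheafData, IZ ≤ K ∧ img IZ U K = 𝔟 := by
  obtain ⟨J, hJ⟩ := exists_ideal_eq U (𝔟.comap (Ideal.Quotient.mk (IZ.ideal U)))
  refine ⟨J ⊔ IZ, le_sup_right, ?_⟩
  rw [img, Scheme.IdealSheafData.ideal_sup, Pi.sup_apply, hJ, Ideal.map_sup, Ideal.map_quotient_self,
    sup_bot_eq, Ideal.map_comap_of_surjective _ Ideal.Quotient.mk_surjective]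

include hsupp in
theorem isAtom_img [QuasiSeparatedSpace X] {I' : X.IdealSheafData} (h : IZ ⋖ I') : IsAtom (img IZ U I') := by
  refine ⟨fun h0 => h.lt.not_ge ((img_le_iff IZ U hsupp h.lt.le le_rfl).1 (h0.le.trans bot_le)), fun 𝔟 hb => ?_⟩
  obtain ⟨K, hK, rfl⟩ := exists_img_eq IZ U hsupp 𝔟
  by_contra h0
  refine h.2 (lt_of_le_not_ge hK fun h' => h0 (le_bot_iff.1 ?_))
    (lt_of_le_not_ge ((img_le_iff IZ U hsupp hK h.lt.le).1 hb.le) fun h' =>
      hb.not_ge ((img_le_iff IZ U hsupp h.lt.le hK).2 h'))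
  exact ((img_le_iff IZ U hsupp hK le_rfl).2 h').trans (img_self IZ U).le

include hsupp in
theorem exists_cover_le [QuasiSeparatedSpace X] [IsArtinianRing (Γ(X, U.1) ⧸ IZ.ideal U)]
    {J : X.IdealSheafData} (hJ : IZ < J) : ∃ I', IZ ⋖ I' ∧ I' ≤ J := by
  haveI : WellFoundedLT (Ideal (Γ(X, U.1) ⧸ IZ.ideal U)) := ‹IsArtinianRing _›
  haveI : IsAtomic (Ideal (Γ(X, U.1) ⧸ IZ.ideal U)) :=
    isAtomic_of_orderBot_wellFounded_lt wellFounded_lt
  rcases eq_bot_or_exists_atom_le (img IZ U J) with h0 | ⟨𝔟, hb, hbJ⟩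
  · exact absurd ((img_le_iff IZ U hsupp hJ.le le_rfl).1 (h0.le.trans bot_le)) hJ.not_ge
  obtain ⟨K, hK, rfl⟩ := exists_img_eq IZ U hsupp 𝔟
  refine ⟨K, ⟨lt_of_le_not_ge hK fun h => hb.1 (le_bot_iff.1 (((img_le_iff IZ U hsupp hK le_rfl).2 h).trans
    (img_self IZ U).le)), fun K' h1 h2 => ?_⟩, (img_le_iff IZ U hsupp hK hJ.le).1 hbJ⟩
  rcases hb.le_iff.1 ((img_le_iff IZ U hsupp h1.le hK).2 h2.le) with h | h
  · exact h1.not_ge ((img_le_iff IZ U hsupp h1.le le_rfl).1 (h.le.trans bot_le))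
  · exact h2.not_ge ((img_le_iff IZ U hsupp hK h1.le).1 h.ge)

variable (k : Type u) [Field k] [IsAlgClosed k] [X.Over (Spec (CommRingCat.of k))]
  [IsProper (X ↘ Spec (CommRingCat.of k))]

include k hsupp in
theorem finiteDimensional_ring : Module.Finite k (Γ(X, U.1) ⧸ IZ.ideal U) := by
  haveI := Euler.finiteDimensional_HH k (Snapper.isCoh_quotMod k IZ) 0
  obtain ⟨Q⟩ := CBGor28.exists_quot_equiv k IZ U hsupp
  exact Q.symm.finiteDimensional

include k hsupp in
theorem finite_covers [IsIntegral X] [Smooth (X ↘ Spec (CommRingCat.of k))] (hdim : topologicalKrullDim X = 2)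
    (hfin : (IZ.support : Set X).Finite)
    (hlci : ∀ x : X, ∃ V : X.affineOpens, x ∈ (V : X.Opens) ∧
      ∃ a b : Γ(X, V), IZ.ideal V = Ideal.span {a, b}) :
    Finite {I' : X.IdealSheafData // IZ ⋖ I'} := by
  haveI := Euler.isNoetherian_of_proper (X := X) k
  haveI := finiteDimensional_ring IZ U hsupp k
  haveI : IsArtinianRing (Γ(X, U.1) ⧸ IZ.ideal U) := IsArtinianRing.of_finite k _
  have hsp : ∀ I' : {I' : X.IdealSheafData // IZ ⋖ I'}, ∃ (s : Γ(X, U.1) ⧸ IZ.ideal U) (p : MaximalSpectrum _),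
      s ≠ 0 ∧ (∀ x ∈ p.asIdeal, x * s = 0) ∧ img IZ U I'.1 = Ideal.span {s} := fun I' => by
    obtain ⟨s, p, hp, h1, h2, h3⟩ := exists_socle_of_atom (isAtom_img IZ U hsupp I'.2)
    exact ⟨s, ⟨p, hp⟩, h1, h2, h3⟩
  choose s p hs0 hps himg using hsp
  refine Finite.of_injective p fun I J h => Subtype.ext ?_
  obtain ⟨a, ha⟩ := CBGor28.exists_mul_eq_of_socle k IZ U hsupp hdim hfin hlci (p I).asIdeal (p I).isMaximal
    (s I) (s J) (hps I) (hs0 I) (by rw [h]; exact hps J)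
  have hle : img IZ U J.1 ≤ img IZ U I.1 := by
    rw [himg, himg, Ideal.span_singleton_le_iff_mem, Ideal.mem_span_singleton']
    exact ⟨a, ha.symm⟩
  have heq : img IZ U J.1 = img IZ U I.1 :=
    ((isAtom_img IZ U hsupp I.2).le_iff.1 hle).resolve_left (isAtom_img IZ U hsupp J.2).1
  exact le_antisymm ((img_le_iff IZ U hsupp I.2.lt.le J.2.lt.le).1 heq.ge)
    ((img_le_iff IZ U hsupp J.2.lt.le I.2.lt.le).1 heq.le)

include k hsupp in
theorem finrank_quotMod_cover [QuasiSeparatedSpace X] {I' : X.IdealSheafData} (h : IZ ⋖ I') :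
    Module.finrank k (Coh.HH X (ClSub.quotMod IZ) 0) = Module.finrank k (Coh.HH X (ClSub.quotMod I') 0) + 1 := by
  have hsupp' : (I'.support : Set X) ⊆ U.1 := fun x hx =>
    hsupp (Scheme.IdealSheafData.support_antitone h.lt.le hx)
  obtain ⟨Q⟩ := CBGor28.exists_quot_equiv k IZ U hsupp
  obtain ⟨Q'⟩ := CBGor28.exists_quot_equiv k I' U hsupp'
  haveI := finiteDimensional_ring IZ U hsupp k
  rw [← Q.finrank_eq, ← Q'.finrank_eq]
  let g := (Ideal.Quotient.factorₐ k (h.lt.le U)).toLinearMap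
  have hker : LinearMap.ker g = (img IZ U I').restrictScalars k := by
    ext x
    obtain ⟨r, rfl⟩ := Ideal.Quotient.mk_surjective x
    rw [LinearMap.mem_ker, Submodule.restrictScalars_mem, mem_img IZ U h.lt.le]
    exact Ideal.Quotient.eq_zero_iff_mem
  rw [← LinearMap.finrank_range_add_finrank_ker g, hker, finrank_atom k (isAtom_img IZ U hsupp h),
    LinearMap.range_eq_top.2 (fun y => ?_), finrank_top]
  obtain ⟨r, rfl⟩ := Ideal.Quotient.mk_surjective y
  exact ⟨Ideal.Quotient.mk _ r, rfl⟩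

end GrothLib.CBLci28
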