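import Groth.Agent.Lib.CBLci28.Factor
import Groth.Agent.Lib.ExtEq13.Basic

/-!
# The Cayley–Bacharach criterion for extensions
-/

set_option autoImplicit false
set_option maxHeartbeats 2400000
set_option linter.style.haveILetI false
set_option linter.unusedSectionVars false
set_option backward.isDefEq.respectTransparency false

universe u

open CategoryTheory CategoryTheory.Limits AlgebraicGeometry TopologicalSpace
open CategoryTheory.Abelian (Ext)
open GrothLib.QCoh (stalkLin)
open GrothLib.Cohom (hhMap)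
open GrothLib.CBExt28 (Tw)

noncomputable section

namespace GrothLib.CBLci28

variable {X : Scheme.{u}}

local instance mono_idealModι' (I : X.IdealSheafData) : Mono (ClSub.idealModι I) :=
  inferInstanceAs (Mono (kernel.ι (ClSub.toSubscheme I)))

variable (k : Type u) [Field k] [IsAlgClosed k] [X.Over (Spec (CommRingCat.of k))]
  [IsProper (X ↘ Spec (CommRingCat.of k))] [IsIntegral X]

include k in
theorem isClosed_point_of_finite {S : Set X} (hS : IsClosed S) (hfin : S.Finite) :
    ∀ x ∈ S, IsClosed ({x} : Set X) := by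
  haveI : JacobsonSpace X := LocallyOfFiniteType.jacobsonSpace (X ↘ Spec (CommRingCat.of k))
  intro x hx
  have h2 : IsClosed (S ∩ closedPoints X) := by
    rw [show S ∩ closedPoints X = ⋃ z ∈ S ∩ closedPoints X, {z} from (Set.biUnion_of_singleton _).symm]
    exact (hfin.subset Set.inter_subset_left).isClosed_biUnion fun z hz => hz.2
  have h3 := JacobsonSpace.closure_inter_closedPoints_eq_closure hS.isLocallyClosed
  rw [h2.closure_eq, hS.closure_eq] at h3
  rw [← h3] at hx
  exact hx.2

include k in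
theorem euler_idealMod (I : X.IdealSheafData) (hfin : (I.support : Set X).Finite) :
    Curv2.euler k X (Coh.structureModule X) =
      Curv2.euler k X (ClSub.idealMod I) + (Module.finrank k (Coh.HH X (ClSub.quotMod I) 0) : ℤ) := by
  haveI := Euler.isNoetherian_of_proper (X := X) k
  have hQ := Euler.euler_eq_of_finite_support k (ClSub.quotMod I) (hfin.subset (Snapper.support_quotMod I))
    fun x hx => isClosed_point_of_finite k I.support.isClosed hfin x (Snapper.support_quotMod I hx)
  have hadd : ∀ (S : ShortComplex X.Modules), S.ShortExact → Coh.IsCoh S.X₁ → Coh.IsCoh S.X₂ → Coh.IsCoh S.X₃ →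
      ∀ A B C, S.X₁ = A → S.X₂ = B → S.X₃ = C →
        Curv2.euler k X B = Curv2.euler k X A + Curv2.euler k X C := by
    intro S hS a b c A B C ha hb hc
    subst ha hb hc
    exact Euler.euler_additive k hS a b c
  rw [hadd _ (ArSurf29.shortExact_ideal I) (CBExt28.isCoh_idealMod k I)
    (Euler.isCoh_of_isInvertible Euler.isInvertible_structure) (Snapper.isCoh_quotMod k I)
    (ClSub.idealMod I) (Coh.structureModule X) (ClSub.quotMod I) rfl rfl rfl, hQ]

variable (IZ : X.IdealSheafData) (U : X.affineOpens) (hsupp : (IZ.support : Set X) ⊆ U.1)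
  (hfin : (IZ.support : Set X).Finite)

include k hsupp hfin in
/-- The quotient of a cover has one twisted section. -/
theorem finrank_H0_tw_cover {A : X.Modules} (hA : PicF.IsInvertible A) {I' : X.IdealSheafData} (h : IZ ⋖ I') :
    Module.finrank k (Coh.HH X ((Tw A).obj (cokernel (HodgeIndex.idealIncl h.lt.le))) 0) = 1 := by
  haveI := Euler.isNoetherian_of_proper (X := X) k
  haveI := HodgeIndex.mono_idealIncl (I := IZ) (J := I') h.lt.le
  let φ := HodgeIndex.idealIncl (I := IZ) (J := I') h.lt.le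
  let Q := cokernel φ
  have hI := CBExt28.isCoh_idealMod k IZ
  have hI' := CBExt28.isCoh_idealMod k I'
  have hQ : Coh.IsCoh Q := QCoh.isCoh_cokernel φ hI hI'
  have hS : (ShortComplex.mk φ (cokernel.π φ) (cokernel.condition φ)).ShortExact :=
    ShortComplex.ShortExact.mk' (ShortComplex.exact_cokernel φ) inferInstance inferInstance
  have hfin' : (I'.support : Set X).Finite := hfin.subset (Scheme.IdealSheafData.support_antitone h.lt.le)
  have hQs : CohB1.support Q ⊆ (IZ.support : Set X) := fun x hx => by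
    by_contra hxs
    refine QCoh.notMem_support_cokernel_of_surjective φ (fun w => ?_) hx
    have hst : Goodman.st IZ x = ⊤ := Goodman.st_of_notMem IZ hxs
    obtain ⟨v, hv⟩ : OmegaBC.sval I' x w ∈ Goodman.st IZ x := hst ▸ trivial
    exact ⟨v, OmegaBC.sval_injective I' x ((IdealMV12.sval_incl h.lt.le x v).trans hv)⟩
  have hQf : (CohB1.support Q).Finite := hfin.subset hQs
  have hQc : ∀ x ∈ CohB1.support Q, IsClosed ({x} : Set X) := fun x hx =>
    isClosed_point_of_finite k IZ.support.isClosed hfin x (hQs hx)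
  have hχ : Curv2.euler k X Q = 1 := by
    have e1 := Euler.euler_additive k hS hI hI' hQ
    have e2 := euler_idealMod k IZ hfin
    have e3 := euler_idealMod k I' hfin'
    have e4 := finrank_quotMod_cover IZ U hsupp k h
    rw [e4, e3] at e2
    push_cast at e2
    change Curv2.euler k X (ClSub.idealMod I') = _ + Curv2.euler k X Q at e1
    linarith
  have hE := Euler.isFinLocFreeOfRank_one' hA
  let e : (Tw A).obj Q ≅ (GrothLib.Euler.tF A).obj Q := GrTilde.tensorModComm (X := X) A Q
  have hsub := Euler.support_tF_subset (M := Q) hE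
  have h1 := Euler.euler_tF_of_finite_support k hE hQ hQf hQc
  rw [hχ, Euler.euler_eq_of_finite_support k _ (hQf.subset hsub) (fun x hx => hQc x (hsub hx)),
    Nat.cast_one, one_mul] at h1
  rw [(SerrePn27.hhMapEquiv (k := k) e 0).finrank_eq]
  exact_mod_cast h1

variable [Smooth (X ↘ Spec (CommRingCat.of k))]

include k hfin in
/-- Bundle extensions are those avoiding all covers. -/
theorem exists_bundle_iff (hdim : topologicalKrullDim X = 2) (M : X.Modules) (hM : PicF.IsInvertible M)
    [HasExt.{u} X.Modules] [Finite {I' : X.IdealSheafData // IZ ⋖ I'}]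
    (hcov : ∀ J, IZ < J → ∃ I', IZ ⋖ I' ∧ I' ≤ J) :
    (∃ (F : X.Modules) (a : M ⟶ F) (b : F ⟶ ClSub.idealMod IZ) (w : a ≫ b = 0),
        (ShortComplex.mk a b w).ShortExact ∧ FlatMod.IsFinLocFree F) ↔
      ∀ I' (h : IZ ⋖ I'), ¬ Function.Surjective
        ((Ext.mk₀ (HodgeIndex.idealIncl (I := IZ) (J := I') h.lt.le)).precomp M (zero_add 1)) := by
  classical
  haveI : EnoughInjectives X.Modules := SheafCoh.enoughInjectives_sheafOfModules X.ringCatSheaf
  constructor
  · rintro ⟨F, a, b, w, hex, hF⟩ I' h hsurj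
    obtain ⟨x', hx'⟩ := hsurj hex.extClass
    obtain ⟨F', a', b', w', hex', rfl⟩ := ExtHull28.exists_seq_of_class x'
    obtain ⟨V, c, d, w'', g, hV, hcg, hgd, hcl⟩ :=
      ExtHull28.exists_pullback_seq hex' (HodgeIndex.idealIncl (I := IZ) (J := I') h.lt.le)
    obtain ⟨θ, hθ, hθ₁, hθ₂⟩ := ExtEq13.exists_iso_of_extClass_eq hex hV (hx'.symm.trans hcl.symm)
    refine (ExtHull28.not_isFinLocFree_iff k hdim M hM IZ hfin F a b w hex).2
      ⟨I', F', a', b', w', HodgeIndex.idealIncl h.lt.le, θ ≫ g, h.lt, hex', kernel.lift_ι _ _ _, ?_, ?_⟩ hF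
    · rw [← Category.assoc, hθ₁, hcg]
    · rw [Category.assoc, hgd, ← Category.assoc, hθ₂]
  · intro h
    haveI : Infinite k := IsAlgClosed.instInfinite
    let P : {I' : X.IdealSheafData // IZ ⋖ I'} → Submodule k (Ext (ClSub.idealMod IZ) M 1) := fun I' =>
      LinearMap.range ((Ext.mk₀ (HodgeIndex.idealIncl (I := IZ) (J := I'.1) I'.2.lt.le)).precompOfLinear k M (zero_add 1))
    have hP : ∀ I', P I' ≠ ⊤ := fun I' htop => h I'.1 I'.2 (LinearMap.range_eq_top.1 htop)
    obtain ⟨x, hx⟩ : ∃ x, ∀ I', x ∉ P I' := by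
      by_contra hne
      push Not at hne
      obtain ⟨i, hi⟩ := Subspace.exists_eq_top_of_iUnion_eq_univ (p := P)
        (Set.eq_univ_of_forall fun x => Set.mem_iUnion.2 (hne x))
      exact hP i hi
    obtain ⟨F, a, b, w, hex, rfl⟩ := ExtHull28.exists_seq_of_class x
    refine ⟨F, a, b, w, hex, by_contra fun hF => ?_⟩
    obtain ⟨J, F', a', b', w', φ, g, hlt, hex', hφ, hag, hgb⟩ :=
      (ExtHull28.not_isFinLocFree_iff k hdim M hM IZ hfin F a b w hex).1 hF
    obtain ⟨I', hI', hI'J⟩ := hcov J hlt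
    refine hx ⟨I', hI'⟩ ⟨(Ext.mk₀ (HodgeIndex.idealIncl hI'J)).comp hex'.extClass (zero_add 1), ?_⟩
    show (Ext.mk₀ (HodgeIndex.idealIncl hI'.lt.le)).comp
      ((Ext.mk₀ (HodgeIndex.idealIncl hI'J)).comp hex'.extClass (zero_add 1)) (zero_add 1) = hex.extClass
    rw [Ext.mk₀_comp_mk₀_assoc]
    have hfac : HodgeIndex.idealIncl (I := IZ) (J := I') hI'.lt.le ≫ HodgeIndex.idealIncl hI'J = φ := by
      rw [← cancel_mono (ClSub.idealModι J), Category.assoc, IdealMV12.idealIncl_ι, IdealMV12.idealIncl_ι, hφ]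
    rw [hfac]
    have := ShortComplex.ShortExact.extClass_naturality hex hex'
      ({ τ₁ := 𝟙 M
         τ₂ := g
         τ₃ := φ
         comm₁₂ := by simp [hag]
         comm₂₃ := hgb } : ShortComplex.mk a b w ⟶ ShortComplex.mk a' b' w')
    rw [Ext.comp_mk₀_id] at this
    exact this.symm

variable {k} {r : ℕ} {ιP : X ⟶ CohB1.ProjSpace r k} [IsClosedImmersion ιP]
  (hιP : ιP ≫ CohB1.ProjSpace.toSpec r k = X ↘ Spec (CommRingCat.of k))
  [SmoothOfRelativeDimension 2 (X ↘ Spec (CommRingCat.of k))] [HasExt.{u} X.Modules]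
  {ω : X.Modules} (hω : ExtPow.IsExtPow 2 (Omega.sheaf (X ↘ Spec (CommRingCat.of k))) ω)

include hιP hω hsupp hfin in
/-- The Cayley–Bacharach property at one cover. -/
theorem surjective_precomp_iff_exists_section {A K : X.Modules} (hA : PicF.IsInvertible A)
    (e : (Tw A).obj K ≅ ω) {I' : X.IdealSheafData} (h : IZ ⋖ I') :
    Function.Surjective ((Ext.mk₀ (HodgeIndex.idealIncl (I := IZ) (J := I') h.lt.le)).precomp K (zero_add 1)) ↔
      ∃ σ : Coh.structureModule X ⟶ A, PicF2.zeroScheme A σ ≤ I' ∧ ¬ PicF2.zeroScheme A σ ≤ IZ := by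
  haveI := Euler.isNoetherian_of_proper (X := X) k
  haveI := CBExt28.isEquivalence_Tw hA
  haveI : Nonempty X := ⟨genericPoint X⟩
  haveI := HodgeIndex.mono_idealIncl (I := IZ) (J := I') h.lt.le
  let φ := HodgeIndex.idealIncl (I := IZ) (J := I') h.lt.le
  have hφ : φ ≫ ClSub.idealModι I' = ClSub.idealModι IZ := kernel.lift_ι _ _ _
  let S := ShortComplex.mk φ (cokernel.π φ) (cokernel.condition φ)
  have hS : S.ShortExact :=
    ShortComplex.ShortExact.mk' (ShortComplex.exact_cokernel φ) inferInstance inferInstance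
  have hcoh : ∀ {M : X.Modules}, Coh.IsCoh M → Coh.IsCoh ((Tw A).obj M) := fun {M} hM =>
    QCoh.isCoh_of_iso (GrTilde.tensorModComm (X := X) M A) (CMReg.isCoh_tensorMod hM hA)
  have hT : (S.map (Tw A)).ShortExact := CBExt28.tw_shortExact hA hS
  rw [CBExt28.surjective_precomp_tw_iff hA e φ]
  refine (CBExt28.surjective_precomp_iff_hhMap hιP hω (S.map (Tw A)) hT (hcoh (CBExt28.isCoh_idealMod k _))
    (hcoh (CBExt28.isCoh_idealMod k _)) (hcoh (QCoh.isCoh_cokernel φ (CBExt28.isCoh_idealMod k _)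
      (CBExt28.isCoh_idealMod k _))) (finrank_H0_tw_cover k IZ U hsupp hfin hA h)).trans ?_
  rw [ne_eq, CBExt28.hhMap_eq_zero_iff k, not_forall]
  haveI : Mono ((Tw A).map (ClSub.idealModι I')) := inferInstance
  haveI : Mono (S.map (Tw A)).f := hT.mono_f
  constructor
  · rintro ⟨ρ, hρ⟩
    let σ : Coh.structureModule X ⟶ A := ρ ≫ (Tw A).map (ClSub.idealModι I') ≫ (SecTwist.unitorR A).hom
    refine ⟨σ, (exists_factor_iff' hA σ I').1 ⟨ρ, rfl⟩, fun hle => hρ ?_⟩
    obtain ⟨ρ', hρ'⟩ := (exists_factor_iff' hA σ IZ).2 hle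
    have h2 : ρ' ≫ (Tw A).map φ = ρ := by
      rw [← cancel_mono ((Tw A).map (ClSub.idealModι I')), ← cancel_mono (SecTwist.unitorR A).hom]
      simp only [Category.assoc]
      rw [← (Tw A).map_comp_assoc, hφ]
      exact hρ'
    rw [← h2]
    exact (Category.assoc _ _ _).trans ((congrArg (ρ' ≫ ·) (S.map (Tw A)).zero).trans comp_zero)
  · rintro ⟨σ, h1, h2⟩
    obtain ⟨ρ, hρ⟩ := (exists_factor_iff' hA σ I').2 h1
    refine ⟨ρ, fun h0 => h2 ?_⟩
    let ρ' := hT.exact.lift ρ h0
    have hl : ρ' ≫ (Tw A).map φ = ρ := hT.exact.lift_f ρ h0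
    refine (exists_factor_iff' hA σ IZ).1 ⟨ρ', ?_⟩
    rw [← hρ, ← hl, Category.assoc, ← (Tw A).map_comp_assoc, hφ]

end GrothLib.CBLci28
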