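import Groth.Agent.Lib.CBLci28.Covers
import Groth.Agent.Lib.CBExt28.Transfer

/-!
# Sections factoring through a twisted ideal
-/

set_option autoImplicit false
set_option maxHeartbeats 1600000
set_option linter.style.haveILetI false
set_option linter.unusedSectionVars false
set_option backward.isDefEq.respectTransparency false

universe u

open CategoryTheory CategoryTheory.Limits AlgebraicGeometry TopologicalSpace
open GrothLib.QCoh (stalkLin)
open GrothLib.CBExt28 (Tw)

noncomputable section

namespace GrothLib.CBLci28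

variable {X : Scheme.{u}}

local instance mono_idealModι (I : X.IdealSheafData) : Mono (ClSub.idealModι I) :=
  inferInstanceAs (Mono (kernel.ι (ClSub.toSubscheme I)))

/-- Ideal sheaves compare on stalks. -/
theorem le_iff_st {I J : X.IdealSheafData} : I ≤ J ↔ ∀ x, Goodman.st I x ≤ Goodman.st J x := by
  refine ⟨IdealMV12.st_mono, fun h U r hr => ?_⟩
  refine Ideal.mem_of_localization_maximal fun P hP => ?_
  let y : PrimeSpectrum Γ(X, U.1) := ⟨P, Ideal.IsMaximal.isPrime' P⟩
  let z : X := U.2.fromSpec y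
  have hzU : z ∈ U.1 := U.2.range_fromSpec.le (Set.mem_range_self y)
  letI := TopCat.Presheaf.algebra_section_stalk X.presheaf (⟨z, hzU⟩ : U.1)
  haveI : IsLocalization.AtPrime (X.presheaf.stalk z) P := U.2.isLocalization_stalk' y hzU
  have h1 : algebraMap Γ(X, U.1) (X.presheaf.stalk z) r ∈ (J.ideal U).map (algebraMap _ _) := by
    have h2 := Goodman.st_eq J U hzU
    refine h2.le (h z ((Goodman.st_eq I U hzU).ge (Ideal.mem_map_of_mem _ hr)))
  let e := IsLocalization.algEquiv P.primeCompl (X.presheaf.stalk z) (Localization.AtPrime P)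
  have h3 := Ideal.mem_map_of_mem e.toAlgHom.toRingHom h1
  rw [Ideal.map_map, show e.toAlgHom.toRingHom.comp (algebraMap Γ(X, U.1) (X.presheaf.stalk z)) =
    algebraMap Γ(X, U.1) (Localization.AtPrime P) from e.toAlgHom.comp_algebraMap] at h3
  have h4 : e.toAlgHom.toRingHom (algebraMap Γ(X, U.1) (X.presheaf.stalk z) r) =
      algebraMap Γ(X, U.1) (Localization.AtPrime P) r := e.toAlgHom.commutes r
  rwa [h4] at h3

/-- The stalks of a zero scheme in terms of a generator. -/
theorem st_zeroScheme {A : X.Modules} (hA : PicF.IsInvertible A) (σ : Coh.structureModule X ⟶ A) {x : X}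
    {g : A.presheaf.stalk x} (hg : Ref1.Gen A x g) {c : X.presheaf.stalk x}
    (h : stalkLin σ x (HomSh.unitStalk x 1) = c • g) :
    Goodman.st (PicF2.zeroScheme A σ) x = Ideal.span {c} := by
  obtain ⟨V, e₀, hxV, he₀⟩ := InvExt.exists_gen_nhd hA x
  obtain ⟨U, hU, hxU, hUV⟩ := exists_isAffineOpen_mem_and_subset hxV
  have hUV' : U ≤ V := hUV
  let W : X.affineOpens := ⟨U, hU⟩
  let e : Γ(A, W.1) := InvExt.mres A hUV' e₀
  have he : InvExt.IsGen A W.1 e := he₀.restrict hUV'
  obtain ⟨cU, hcU⟩ := (he W.1 le_rfl).2 (show Γ(A, W.1) from PicF2.secVal A σ W.1)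
  dsimp only at hcU
  rw [InvExt.mres_self] at hcU
  rw [Goodman.st_eq _ W hxU, Jets.zeroScheme_ideal_gen hA σ W he hcU.symm, Ideal.map_span, Set.image_singleton]
  have hge : Ref1.Gen A x (A.presheaf.germ W.1 x hxU e) := Ref1.gen_of_isGen he hxU
  have h1 : stalkLin σ x (HomSh.unitStalk x 1) =
      X.presheaf.germ W.1 x hxU cU • A.presheaf.germ W.1 x hxU e := by
    have h1 : (HomSh.unitStalk x (1 : X.presheaf.stalk x)) =
        (Coh.structureModule X).presheaf.germ W.1 x hxU (FinCov.one X W.1) := by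
      refine (one_smul (X.presheaf.stalk x) _).trans ?_
      rw [← TopCat.Presheaf.germ_res_apply (Coh.structureModule X).presheaf (homOfLE le_top) x hxU]
      exact congrArg _ (map_one (X.presheaf.map (homOfLE (le_top : W.1 ≤ ⊤)).op).hom)
    rw [h1, QCoh.stalkLin_germ]
    refine (congrArg (A.presheaf.germ W.1 x hxU) ?_).trans (Mero.germ_smul A W.1 x hxU cU e)
    refine Eq.trans ?_ hcU.symm
    show _ = σ.app W.1 _
    congr 1
  obtain ⟨v, hv⟩ := hge.2 g
  obtain ⟨w, hw⟩ := hg.2 (A.presheaf.germ W.1 x hxU e)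
  dsimp only at hv hw
  refine le_antisymm ?_ ?_ <;> rw [Ideal.span_singleton_le_iff_mem, Ideal.mem_span_singleton']
  · refine ⟨v, hge.1 ?_⟩
    show (v * c) • _ = X.presheaf.germ W.1 x hxU cU • _
    rw [← h1, h, ← hv, smul_smul, mul_comm v c]
  · refine ⟨w, hg.1 ?_⟩
    show (w * X.presheaf.germ W.1 x hxU cU) • g = c • g
    rw [← h, h1, ← hw, smul_smul, mul_comm w]

/-- A section factors through a twisted ideal exactly when its zero scheme has a smaller ideal. -/
theorem exists_factor_iff' [IsIntegral X] [IsNoetherian X] {A : X.Modules} (hA : PicF.IsInvertible A)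
    (σ : Coh.structureModule X ⟶ A) (J : X.IdealSheafData) :
    (∃ ρ, ρ ≫ (Tw A).map (ClSub.idealModι J) ≫ (SecTwist.unitorR A).hom = σ) ↔ PicF2.zeroScheme A σ ≤ J := by
  haveI := CBExt28.isEquivalence_Tw hA
  have hS := CBExt28.tw_shortExact hA (ArSurf29.shortExact_ideal J)
  haveI : Mono ((Tw A).map (ClSub.idealModι J)) := hS.mono_f
  let σ' : Coh.structureModule X ⟶ (Tw A).obj (Coh.structureModule X) := σ ≫ (SecTwist.unitorR A).inv
  have key : ∀ x : X, stalkLin (σ' ≫ (Tw A).map (ClSub.toSubscheme J)) x (HomSh.unitStalk x 1) = 0 ↔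
      Goodman.st (PicF2.zeroScheme A σ) x ≤ Goodman.st J x := by
    intro x
    obtain ⟨t, ht⟩ := Ref1.exists_gen_of_isInvertible hA x
    have hg : Ref1.Gen (CohB1.tensorMod A (Coh.structureModule X)) x
        (Ref1.tmulStalk A (Coh.structureModule X) x t (HomSh.unitStalk x 1)) :=
      Ref1.Gen.tmulStalk A (Coh.structureModule X) ht (Ref1.gen_unitStalk x)
    obtain ⟨c, hc⟩ := hg.2 (stalkLin σ' x (HomSh.unitStalk x 1))
    dsimp only at hc
    let g' := stalkLin (SecTwist.unitorR A).hom x (Ref1.tmulStalk A (Coh.structureModule X) x t (HomSh.unitStalk x 1))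
    have hb : Function.Bijective (stalkLin (SecTwist.unitorR A).hom x) :=
      (ConcreteCategory.isIso_iff_bijective ((OX.stalk x).map (SecTwist.unitorR A).hom)).1 inferInstance
    have hg' : Ref1.Gen A x g' := by
      refine ⟨fun a b h => hg.1 (hb.1 ?_), fun w => ?_⟩
      · refine ((stalkLin (SecTwist.unitorR A).hom x).map_smul a _).trans ?_
        refine Eq.trans ?_ ((stalkLin (SecTwist.unitorR A).hom x).map_smul b _).symm
        exact h
      · obtain ⟨v, rfl⟩ := hb.2 w
        obtain ⟨d, rfl⟩ := hg.2 v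
        exact ⟨d, ((stalkLin (SecTwist.unitorR A).hom x).map_smul d _).symm⟩
    have hσ : stalkLin σ x (HomSh.unitStalk x 1) = c • g' := by
      refine Eq.trans ?_ ((stalkLin (SecTwist.unitorR A).hom x).map_smul c _)
      rw [hc]
      refine Eq.trans ?_ (HodgeIndex.stalkLin_comp_apply σ' (SecTwist.unitorR A).hom x _)
      rw [show σ' ≫ (SecTwist.unitorR A).hom = σ by
        simp only [σ', Category.assoc, Iso.inv_hom_id, Category.comp_id]]
    rw [st_zeroScheme hA σ hg' hσ, Ideal.span_singleton_le_iff_mem]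
    have hval : stalkLin (σ' ≫ (Tw A).map (ClSub.toSubscheme J)) x (HomSh.unitStalk x 1) =
        Ref1.tmulStalk A (ClSub.quotMod J) x t (stalkLin (ClSub.toSubscheme J) x (HomSh.unitStalk x c)) := by
      have e1 : stalkLin ((Tw A).map (ClSub.toSubscheme J)) x
          (Ref1.tmulStalk A (Coh.structureModule X) x t (HomSh.unitStalk x 1)) =
          Ref1.tmulStalk A (ClSub.quotMod J) x t (stalkLin (ClSub.toSubscheme J) x (HomSh.unitStalk x 1)) :=
        Goodman.stalkLin_tensor_tmul A (ClSub.toSubscheme J) x t _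
      have e2 : HomSh.unitStalk x c = c • HomSh.unitStalk x 1 := by rw [← map_smul, smul_eq_mul, mul_one]
      refine (HodgeIndex.stalkLin_comp_apply _ _ x _).trans ?_
      rw [← hc, e2]
      refine ((stalkLin ((Tw A).map (ClSub.toSubscheme J)) x).map_smul c _).trans ?_
      refine (congrArg (c • ·) e1).trans ?_
      refine ((Ref1.tmulStalk A (ClSub.quotMod J) x t).map_smul c _).symm.trans ?_
      exact congrArg _ ((stalkLin (ClSub.toSubscheme J) x).map_smul c _).symm
    rw [hval]
    have hz : Ref1.tmulStalk A (ClSub.quotMod J) x t (stalkLin (ClSub.toSubscheme J) x (HomSh.unitStalk x c)) = 0 ↔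
        stalkLin (ClSub.toSubscheme J) x (HomSh.unitStalk x c) = 0 :=
      ⟨fun h => CBExt28.tmulStalk_left_injective ht (h.trans (map_zero _).symm), fun h => by rw [h, map_zero]⟩
    refine hz.trans ?_
    have hex : Function.Exact (stalkLin (ClSub.idealModι J) x) (stalkLin (ClSub.toSubscheme J) x) :=
      (ShortComplex.ShortExact.moduleCat_exact_iff_function_exact _).1
        ((OX.exact_iff _).1 (ArSurf29.shortExact_ideal J).exact x)
    constructor
    · intro h
      obtain ⟨v, hv⟩ := (hex _).1 h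
      exact ⟨v, (HomSh.unitStalk x).injective ((Goodman.stalkLin_idealModι J x v).symm.trans hv)⟩
    · rintro ⟨v, rfl⟩
      rw [← Goodman.stalkLin_idealModι]
      exact hex.apply_apply_eq_zero v
  constructor
  · rintro ⟨ρ, rfl⟩
    refine le_iff_st.2 fun x => (key x).1 ?_
    have h0 : σ' ≫ (Tw A).map (ClSub.toSubscheme J) = 0 := by
      simp only [σ', Category.assoc, Iso.hom_inv_id_assoc]
      rw [← Functor.map_comp, show ClSub.idealModι J ≫ ClSub.toSubscheme J = 0 from kernel.condition _,
        Functor.map_zero, comp_zero]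
    rw [h0, Kodaira.stalkLin_zero_apply]
  · intro h
    have h0 : σ' ≫ (Tw A).map (ClSub.toSubscheme J) = 0 := by
      refine Scheme.Modules.hom_ext _ _ fun U => AddCommGrpCat.ext fun s => ?_
      refine QCoh.section_eq_zero_of_germ _ _ fun x hx => ?_
      refine (QCoh.stalkLin_germ (σ' ≫ (Tw A).map (ClSub.toSubscheme J)) hx s).symm.trans ?_
      obtain ⟨d, hd⟩ := (Ref1.gen_unitStalk x).2 ((Coh.structureModule X).presheaf.germ U x hx s)
      dsimp only at hd
      rw [← hd, map_smul, (key x).2 (le_iff_st.1 h x), smul_zero]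
    haveI : Mono ((ShortComplex.mk (ClSub.idealModι J) (ClSub.toSubscheme J) (kernel.condition _)).map (Tw A)).f :=
      hS.mono_f
    refine ⟨hS.exact.lift σ' h0, ?_⟩
    rw [← Category.assoc, show hS.exact.lift σ' h0 ≫ (Tw A).map (ClSub.idealModι J) = σ' from
      hS.exact.lift_f σ' h0]
    simp [σ']

end GrothLib.CBLci28
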