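import Groth.Agent.Lib.CBLci28.Criterion
import Groth.Agent.Lib.RedSmooth.Basic
import Groth.Agent.Lib.DimCut.Product

/-!
# Rank two extensions and the Cayley–Bacharach property
-/

set_option autoImplicit false
set_option maxHeartbeats 2400000
set_option linter.style.haveILetI false
set_option linter.unusedSectionVars false
set_option backward.isDefEq.respectTransparency false

universe u

open CategoryTheory CategoryTheory.Limits AlgebraicGeometry TopologicalSpace
open GrothLib.CBExt28 (Tw)

noncomputable section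

namespace GrothLib.CBLci28

attribute [local instance] CBGor28.algV

variable {X : Scheme.{u}} (k : Type u) [Field k] [X.Over (Spec (CommRingCat.of k))]
  [IsProper (X ↘ Spec (CommRingCat.of k))] [IsIntegral X]

include k in
/-- Extensions of `L ⊗ I` by `U` with rank two middle term are extensions of `I` by `L⁻¹ ⊗ U`. -/
theorem exists_rankTwo_iff {L L' U I : X.Modules} (hL : PicF.IsInvertible L) (hL' : PicF.IsInvertible L')
    (eLL' : (Tw L).obj L' ≅ Coh.structureModule X) (eL'L : (Tw L').obj L ≅ Coh.structureModule X)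
    (hU : PicF.IsInvertible U) (hI : Coh.IsCoh I) (hI1 : Euler.grank I = 1) :
    (∃ (E : X.Modules) (i : U ⟶ E) (p : E ⟶ CohB1.tensorMod L I) (w : i ≫ p = 0),
        FlatMod.IsFinLocFreeOfRank 2 E ∧ (ShortComplex.mk i p w).ShortExact) ↔
      ∃ (F : X.Modules) (a : (Tw L').obj U ⟶ F) (b : F ⟶ I) (w : a ≫ b = 0),
        (ShortComplex.mk a b w).ShortExact ∧ FlatMod.IsFinLocFree F := by
  haveI := Euler.isNoetherian_of_proper (X := X) k
  constructor
  · rintro ⟨E, sE, p, w, hE, hS⟩
    haveI := CBExt28.isEquivalence_Tw hL'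
    have hT := CBExt28.tw_shortExact hL' hS
    let c : (Tw L').obj (CohB1.tensorMod L I) ≅ I :=
      (OX.tensorAssoc L' L I).symm ≪≫ ((DCoh.tensorBi (X := X)).mapIso eL'L).app I ≪≫ OX.tensorUnitLeftIso I
    have w' : (Tw L').map sE ≫ (Tw L').map p ≫ c.hom = 0 := by
      rw [← (Tw L').map_comp_assoc, w, Functor.map_zero, zero_comp]
    let ej : (ShortComplex.mk sE p w).map (Tw L') ≅ ShortComplex.mk _ _ w' :=
      ShortComplex.isoMk (Iso.refl _) (Iso.refl _) c (by simp) (by simp)
    refine ⟨(Tw L').obj E, (Tw L').map sE, (Tw L').map p ≫ c.hom, w', ?_, ?_⟩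
    · exact ShortComplex.shortExact_of_iso ej hT
    · exact OX.isFinLocFree_tensor (Euler.isFinLocFree_of_isInvertible hL') (OX.isFinLocFree_of_rank' hE)
  · rintro ⟨F, a, b, w, hS, hF⟩
    haveI := CBExt28.isEquivalence_Tw hL
    obtain ⟨r, hr⟩ := ModelK.exists_rank_connected hF
    have hK : PicF.IsInvertible ((Tw L').obj U) := Ample.isInvertible_tensorMod hL' hU
    have hr2 : r = 2 := by
      have h := Euler.grank_additive hS (Euler.isCoh_of_isFinLocFree hF)
      rw [Euler.grank_of_locFree hr, hI1, Euler.grank_of_locFree (Euler.isFinLocFreeOfRank_one' hK)] at h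
      omega
    subst hr2
    have hT := CBExt28.tw_shortExact hL hS
    let eU : (Tw L).obj ((Tw L').obj U) ≅ U :=
      (OX.tensorAssoc L L' U).symm ≪≫ ((DCoh.tensorBi (X := X)).mapIso eLL').app U ≪≫ OX.tensorUnitLeftIso U
    have w' : (eU.inv ≫ (Tw L).map a) ≫ (Tw L).map b = 0 := by
      rw [Category.assoc, ← Functor.map_comp, w, Functor.map_zero, comp_zero]
    let ej : (ShortComplex.mk a b w).map (Tw L) ≅ ShortComplex.mk _ _ w' :=
      ShortComplex.isoMk eU (Iso.refl _) (Iso.refl _) (by simp) (by simp)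
    refine ⟨(Tw L).obj F, eU.inv ≫ (Tw L).map a, (Tw L).map b, w', ?_, ?_⟩
    · exact OX.isFinLocFreeOfRank_of_iso (GrTilde.tensorModComm (X := X) F L) (RankTwo12.isFinLocFreeOfRank_tensor hr hL)
    · exact ShortComplex.shortExact_of_iso ej hT

omit [IsIntegral X] in
include k in
theorem exists_embedding {H : X.Modules} (hH : CohB1.IsAmple H) :
    ∃ (n : ℕ) (i : X ⟶ CohB1.ProjSpace n k), IsClosedImmersion i ∧
      i ≫ CohB1.ProjSpace.toSpec n k = X ↘ Spec (CommRingCat.of k) := by
  obtain ⟨n, i, hi, hif⟩ := Ample.exists_immersion_of_isAmple (X ↘ Spec (CommRingCat.of k)) hH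
  haveI := hi
  haveI : IsProper (CohB1.ProjSpaceOver.toBase n (Spec (CommRingCat.of k))) := Chow.isProper_toBase n _
  haveI : IsProper (i ≫ CohB1.ProjSpaceOver.toBase n (Spec (CommRingCat.of k))) := hif ▸ inferInstance
  haveI : IsProper i := IsProper.of_comp i (CohB1.ProjSpaceOver.toBase n _)
  haveI := Chow.isClosedImmersion_of_isImmersion_of_isProper i
  haveI := Ample.ProjMap.isClosedImmersion_toProjSpace n k
  refine ⟨n, i ≫ Ample.ProjMap.toProjSpace n k, inferInstance, ?_⟩
  rw [Category.assoc, Ample.ProjMap.toProjSpace_toSpec]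
  exact hif

variable [IsAlgClosed k] [Smooth (X ↘ Spec (CommRingCat.of k))]

include k in
/-- **Rank two extensions exist exactly under the Cayley–Bacharach property.** -/
theorem exists_extension_iff (hdim : topologicalKrullDim X = 2) {H : X.Modules} (hH : CohB1.IsAmple H)
    {ω : X.Modules} (hω : ExtPow.IsExtPow 2 (Omega.sheaf (X ↘ Spec (CommRingCat.of k))) ω)
    {L L' U A : X.Modules} (hL : PicF.IsInvertible L) (hL' : PicF.IsInvertible L')
    (eLL' : (Tw L).obj L' ≅ Coh.structureModule X) (eL'L : (Tw L').obj L ≅ Coh.structureModule X)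
    (hU : PicF.IsInvertible U) (hA : PicF.IsInvertible A) (e : (Tw A).obj ((Tw L').obj U) ≅ ω)
    (IP : X.IdealSheafData) (hfin : (IP.support : Set X).Finite)
    (hlci : ∀ x : X, ∃ V : X.affineOpens, x ∈ (V : X.Opens) ∧
      ∃ a b : Γ(X, V), IP.ideal V = Ideal.span {a, b}) :
    (∃ (E : X.Modules) (i : U ⟶ E) (p : E ⟶ CohB1.tensorMod L (ClSub.idealMod IP)) (w : i ≫ p = 0),
        FlatMod.IsFinLocFreeOfRank 2 E ∧ (ShortComplex.mk i p w).ShortExact) ↔
      ∀ I' : X.IdealSheafData, IP ⋖ I' → ∀ σ : Coh.structureModule X ⟶ A,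
        PicF2.zeroScheme A σ ≤ I' → PicF2.zeroScheme A σ ≤ IP := by
  classical
  haveI := Euler.isNoetherian_of_proper (X := X) k
  haveI : Nonempty X := ⟨genericPoint X⟩
  haveI : SmoothOfRelativeDimension 2 (X ↘ Spec (CommRingCat.of k)) :=
    DimCut.smoothOfRelativeDimension _ 2 (by exact_mod_cast hdim)
  haveI : HasExt.{u} X.Modules := CategoryTheory.hasExt_of_enoughInjectives X.Modules
  obtain ⟨n, ιP, hιP, hιf⟩ := exists_embedding k hH
  haveI := hιP
  obtain ⟨U₀, hU₀, hsupp, -⟩ := QSecGen13.exists_affine_of_finite_ample hH hfin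
    (U := (⊤ : X.Opens)) (fun _ _ => trivial)
  let W : X.affineOpens := ⟨U₀, hU₀⟩
  haveI := finiteDimensional_ring IP W hsupp k
  haveI : IsArtinianRing (Γ(X, W.1) ⧸ IP.ideal W) := IsArtinianRing.of_finite k _
  haveI := finite_covers IP W hsupp k hdim hfin hlci
  have hI1 : Euler.grank (ClSub.idealMod IP) = 1 := by
    have hη : genericPoint X ∉ (IP.support : Set X) := fun hmem => by
      have h2 := ExtHull28.two_le_dim_stalk k hdim IP.support.isClosed hfin hmem
      rw [ringKrullDim_stalk_eq_coheight, Ref1.coheight_genericPoint] at h2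
      exact absurd h2 (by norm_num)
    have hst := Goodman.st_of_notMem IP hη
    have hb : Function.Bijective (QCoh.stalkLin (ClSub.idealModι IP) (genericPoint X)) := by
      refine ⟨fun a b hab => OmegaBC.sval_injective IP _ ((HomSh.unitStalk _).injective ?_), fun v => ?_⟩
      · rw [← Goodman.stalkLin_idealModι, hab, Goodman.stalkLin_idealModι]
      · obtain ⟨c, rfl⟩ := (HomSh.unitStalk (genericPoint X)).surjective v
        obtain ⟨a, ha⟩ : c ∈ Goodman.st IP (genericPoint X) := hst ▸ trivial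
        exact ⟨a, by rw [Goodman.stalkLin_idealModι, ha]⟩
    refine (LinearEquiv.finrank_eq (LinearEquiv.ofBijective _ hb)).trans ?_
    exact Euler.grank_of_locFree (Euler.isFinLocFreeOfRank_one' Euler.isInvertible_structure)
  rw [exists_rankTwo_iff k hL hL' eLL' eL'L hU (CBExt28.isCoh_idealMod k IP) hI1,
    exists_bundle_iff k IP hfin hdim ((Tw L').obj U) (Ample.isInvertible_tensorMod hL' hU)
      (fun J hJ => exists_cover_le IP W hsupp hJ)]
  constructor
  · intro h I' hI' σ hσ
    by_contra hσ'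
    exact h I' hI' ((surjective_precomp_iff_exists_section IP W hsupp hfin hιf hω hA e hI').2 ⟨σ, hσ, hσ'⟩)
  · intro h I' hI' hsurj
    obtain ⟨σ, hσ, hσ'⟩ := (surjective_precomp_iff_exists_section IP W hsupp hfin hιf hω hA e hI').1 hsurj
    exact hσ' (h I' hI' σ hσ)

end GrothLib.CBLci28
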