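import Groth.Agent.Lib.CBLci28.Main
import Groth.Agent.Lib.Adj27.Main
import Groth.Agent.Lib.OmegaPn27.Proj
import Groth.Agent.Lib.ModelK.Exists
import Groth.Agent.Lib.ProjPic26.Main
import Groth.Agent.Lib.SerrePn27.Twist
import Groth.Agent.Lib.SerrePn27.Generic
import Groth.Agent.Lib.IdealModSec.Basic
import Groth.Agent.Lib.Snapper.PushEuler
import Groth.Agent.Lib.CMReg.StructureMain
import Groth.Agent.Lib.IntNumPn1.Veronese
import Groth.Agent.Lib.FGAInt26.Basic
import Groth.Agent.Lib.CMReg.ProjSpace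
import Groth.Agent.Lib.Chow.Prod
import Groth.Agent.Lib.SurfRR28.Proper
import Groth.Agent.Lib.ArSurf29.DivSum

/-!
# Smooth surfaces in projective three-space: the canonical module
-/

set_option autoImplicit false
set_option maxHeartbeats 1600000
set_option linter.style.haveILetI false
set_option linter.unusedSectionVars false
set_option backward.isDefEq.respectTransparency false

universe u

open CategoryTheory CategoryTheory.Limits AlgebraicGeometry TopologicalSpace
open GrothLib.SerrePn27 (Oi)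
open GrothLib.CBExt28 (Tw)

noncomputable section

namespace GrothLib.CBLci28

theorem choose_three (z : ℤ) : 6 * Ring.choose z 3 = z * (z - 1) * (z - 2) := by
  have h := Ring.descPochhammer_eq_factorial_smul_choose z 3
  simp [descPochhammer, Polynomial.smeval_mul, Polynomial.smeval_sub, Polynomial.smeval_comp,
    Polynomial.smeval_X, Polynomial.smeval_one] at h
  rw [show Nat.factorial 3 = 6 from rfl] at h
  push_cast at h
  linarith

variable {k : Type u} [Field k]

variable {X : Scheme.{u}} [X.Over (Spec (CommRingCat.of k))] [Smooth (X ↘ Spec (CommRingCat.of k))]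
  [IsProper (X ↘ Spec (CommRingCat.of k))] [IsIntegral X] (ι : X ⟶ CohB1.ProjSpace 3 k) [IsClosedImmersion ι]
  (hι : ι ≫ CohB1.ProjSpace.toSpec 3 k = X ↘ Spec (CommRingCat.of k)) (hdim : topologicalKrullDim X = 2)

include hι hdim in
theorem isEffCartierIdeal_ker : _root_.BlowUp.IsEffCartierIdeal ι.ker := by
  haveI := OmegaPn27.smoothOfRelativeDimension_toSpec (n := 3) k
  haveI : SmoothOfRelativeDimension 2 (X ↘ Spec (CommRingCat.of k)) :=
    DimCut.smoothOfRelativeDimension _ 2 (by exact_mod_cast hdim)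
  haveI := Chow.isProper_toSpec 3 k
  have hr := Adj27.isRegularImmersion (CohB1.ProjSpace.toSpec 3 k) (X ↘ Spec (CommRingCat.of k)) ι 3 2 hι
  haveI := SerrePn27.isIntegral_projSpace (n := 3) (k := k)
  intro x
  by_cases hx : x ∈ Set.range ι.base
  · obtain ⟨z, rfl⟩ := hx
    obtain ⟨U, hzU, -, rs, hlen, hreg, hker⟩ := hr.2 z
    obtain ⟨f, rfl⟩ : ∃ f, rs = [f] := List.length_eq_one_iff.1 hlen
    haveI : Nonempty (U.1 : Opens _) := ⟨⟨ι z, hzU⟩⟩
    refine ⟨U, hzU, f, mem_nonZeroDivisors_of_ne_zero fun hf0 => ?_, ?_⟩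
    · have h1 := ((RingTheory.Sequence.isWeaklyRegular_cons_iff _ _ _).1 hreg.toIsWeaklyRegular).1
      rw [hf0] at h1
      exact one_ne_zero (h1 (show (0 : Γ(CohB1.ProjSpace 3 k, U.1)) • (1 : Γ(CohB1.ProjSpace 3 k, U.1)) = 0 • 0 by simp))
    · rw [Scheme.Hom.ker_apply, hker, Ideal.ofList_singleton]
  · obtain ⟨U, hU, hxU, hUs⟩ := exists_isAffineOpen_mem_and_subset
      (U := ⟨(Set.range ι.base)ᶜ, ι.isClosedEmbedding.isClosed_range.isOpen_compl⟩) (x := x) hx
    refine ⟨⟨U, hU⟩, hxU, 1, one_mem _, ?_⟩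
    rw [Ideal.span_singleton_one]
    refine Nagata6.ideal_eq_top_of_disjoint _ _ (Set.disjoint_left.2 fun y hy hys => hUs hy ?_)
    rw [Scheme.Hom.support_ker] at hys
    exact ι.isClosedEmbedding.isClosed_range.closure_eq.le hys


include hι in
/-- Euler characteristics of the twists. -/
theorem euler_Oi {m : ℤ} (eI : ClSub.idealMod ι.ker ≅ Twist.twistProjSpace 3 k m) (n : ℤ) :
    Curv2.euler k X (Oi ι n) = Ring.choose (n + 3) 3 - Ring.choose (m + n + 3) 3 := by
  haveI : IsProper (CohB1.ProjSpace 3 k ↘ Spec (CommRingCat.of k)) := Chow.isProper_toSpec 3 k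
  haveI := Euler.isNoetherian_of_proper (X := CohB1.ProjSpace 3 k) k
  have hP : ∀ a : ℤ, Curv2.euler k (CohB1.ProjSpace 3 k) (Twist.twistProjSpace 3 k a) = Ring.choose (a + 3) 3 :=
    fun a => by
    rw [Euler.euler_eq_sum k _ (N := 4) (fun q hq => ProjCohom.subsingleton_HH
      (fun h => by omega) (fun h => by omega))]
    exact ProjCohom.euler_twist k 3 (by norm_num) a
  have hT := CMReg.isInvertible_twist (n := 3) (k := k) n
  let T := Twist.twistProjSpace 3 k n
  haveI := CBExt28.isEquivalence_Tw hT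
  have hS := CBExt28.tw_shortExact hT (ArSurf29.shortExact_ideal ι.ker)
  have hcoh : ∀ {M : (CohB1.ProjSpace 3 k).Modules}, Coh.IsCoh M → Coh.IsCoh ((Tw T).obj M) := fun {M} hM =>
    QCoh.isCoh_of_iso (GrTilde.tensorModComm (X := CohB1.ProjSpace 3 k) M T) (CMReg.isCoh_tensorMod hM hT)
  have h := Euler.euler_additive k hS (hcoh (CBExt28.isCoh_idealMod k _))
    (hcoh (Euler.isCoh_of_isInvertible Euler.isInvertible_structure)) (hcoh (Snapper.isCoh_quotMod k _))
  obtain ⟨t⟩ := CMReg.nonempty_twist_add (n := 3) (k := k) (a := n) (b := m) (c := m + n) (by ring)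
  let e1 : (Tw T).obj (ClSub.idealMod ι.ker) ≅ Twist.twistProjSpace 3 k (m + n) :=
    Ample.LineData.tensorModMapIso (Iso.refl T) eI ≪≫ t
  let e2 : (Tw T).obj (Coh.structureModule _) ≅ T := SecTwist.unitorR T
  obtain ⟨q⟩ := CMReg.nonempty_tensorMod_push ι T (Euler.isFinLocFree_of_isInvertible hT)
  let q' := ArSurf29.pushUnitIsoQuot ι
  let e3 : (Tw T).obj (ClSub.quotMod ι.ker) ≅ (Scheme.Modules.pushforward ι).obj (Oi ι n) :=
    GrTilde.tensorModComm (X := CohB1.ProjSpace 3 k) T (ClSub.quotMod ι.ker) ≪≫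
      Ample.LineData.tensorModMapIso q'.symm (Iso.refl T) ≪≫ q
  haveI : (Oi ι n).IsQuasicoherent := (Euler.isCoh_of_isInvertible (SerrePn27.isInvertible_Oi ι n)).1
  have h3 : Curv2.euler k (CohB1.ProjSpace 3 k) ((Tw T).obj (ClSub.quotMod ι.ker)) = Curv2.euler k X (Oi ι n) := by
    rw [Euler.euler_of_iso k e3]
    exact Snapper.euler_pushforward ι hι _
  change Curv2.euler k _ ((Tw T).obj (Coh.structureModule _)) =
    Curv2.euler k _ ((Tw T).obj (ClSub.idealMod ι.ker)) +
      Curv2.euler k _ ((Tw T).obj (ClSub.quotMod ι.ker)) at h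
  rw [h3, Euler.euler_of_iso k e1, Euler.euler_of_iso k e2, hP, hP] at h
  linarith

include hι hdim in
theorem degree_eq {m : ℤ} (eI : ClSub.idealMod ι.ker ≅ Twist.twistProjSpace 3 k m) :
    FGA.intNum k X 2 ![Oi ι (-1), Oi ι (-1)] (Coh.structureModule X) = -m := by
  haveI := Euler.isNoetherian_of_proper (X := X) k
  have hd : topologicalKrullDim X ≤ ((2 : ℕ) : WithBot ℕ∞) := hdim.le
  obtain ⟨z⟩ := SerrePn27.nonempty_Oi_zero ι
  obtain ⟨g⟩ := SerrePn27.nonempty_Oi_add ι (a := -1) (b := -1) (c := -2) (by ring)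
  have hi := SerrePn27.isInvertible_Oi ι (-1)
  have hO := Euler.isInvertible_structure (X := X)
  rw [SurfRR28.intNum_eq_isect' k hd hi hi, HodgeIndex.isect, ← Cube.clsMod_tensorMod hi hi,
    ← (Cube.clsMod_eq_one_iff hO).2 ⟨Iso.refl _⟩, ← HodgeIndex.euler_eq_chi k hO, ← HodgeIndex.euler_eq_chi k hi,
    ← HodgeIndex.euler_eq_chi k (Ample.isInvertible_tensorMod hi hi),
    Euler.euler_of_iso k z.symm, Euler.euler_of_iso k g,
    euler_Oi ι hι eI, euler_Oi ι hι eI, euler_Oi ι hι eI]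
  have c := fun z => choose_three z
  nlinarith [c ((0 : ℤ) + 3), c (m + 0 + 3), c ((-1 : ℤ) + 3), c (m + -1 + 3), c ((-2 : ℤ) + 3), c (m + -2 + 3)]

include hι hdim in
/-- **The canonical module of a smooth surface in three-space.** -/
theorem nonempty_omega_iso {ω : X.Modules}
    (hω : ExtPow.IsExtPow 2 (Omega.sheaf (X ↘ Spec (CommRingCat.of k))) ω) :
    Nonempty (ω ≅ Oi ι (FGA.intNum k X 2 ![Oi ι (-1), Oi ι (-1)] (Coh.structureModule X) - 4)) := by
  haveI := OmegaPn27.smoothOfRelativeDimension_toSpec (n := 3) k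
  haveI : SmoothOfRelativeDimension 2 (X ↘ Spec (CommRingCat.of k)) :=
    DimCut.smoothOfRelativeDimension _ 2 (by exact_mod_cast hdim)
  haveI := Chow.isProper_toSpec 3 k
  obtain ⟨m, ⟨eI⟩⟩ := ProjPic26.exists_iso_twist (R := k)
    (IdealModSec.isInvertible_of_isEffCartier (isEffCartierIdeal_ker ι hι hdim))
  rw [degree_eq ι hι hdim eI]
  obtain ⟨a⟩ := Adj27.adjunction (CohB1.ProjSpace.toSpec 3 k) (X ↘ Spec (CommRingCat.of k)) ι 3 2 hι 1 rfl
    (OmegaPn27.isExtPow_twist (n := 3) k) hω (ModelK.isExtPow_one (Omega.conormal ι))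
  let c : Omega.conormal ι ≅ Oi ι m := (Scheme.Modules.pullback ι).mapIso eI
  let a' : Oi ι (-4) ≅ CohB1.tensorMod ω (Oi ι m) :=
    eqToIso (by norm_num) ≪≫ a ≪≫ Ample.LineData.tensorModMapIso (Iso.refl ω) c
  obtain ⟨g⟩ := SerrePn27.nonempty_Oi_add ι (a := m) (b := -m) (c := 0) (by ring)
  obtain ⟨z⟩ := SerrePn27.nonempty_Oi_zero ι
  obtain ⟨g'⟩ := SerrePn27.nonempty_Oi_add ι (a := -4) (b := -m) (c := -m - 4) (by ring)
  exact ⟨(SecTwist.unitorR ω).symm ≪≫ ((DCoh.tensorBi (X := X)).obj ω).mapIso (g ≪≫ z).symm ≪≫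
    (OX.tensorAssoc ω (Oi ι m) (Oi ι (-m))).symm ≪≫
    ((DCoh.tensorBi (X := X)).mapIso a'.symm).app (Oi ι (-m)) ≪≫ g'⟩

end GrothLib.CBLci28
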